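import Mathlib

/-!
Embedding a ring into an absolutely integrally closed ring.
-/

set_option autoImplicit false
set_option linter.style.haveILetI false

universe u

open Polynomial

namespace Groth.Agent.AICExtLib

variable (A : Type u) [CommRing A]

/-- Monic polynomials of positive degree. -/
abbrev Idx : Type u := {p : A[X] // p.Monic ∧ 0 < p.natDegree}

/-- The ideal of the universal roots. -/
noncomputable def rel : Ideal (MvPolynomial (Idx A) A) :=
  Ideal.span (Set.range fun p : Idx A => aeval (MvPolynomial.X p) p.1)

theorem exists_roots (s : Finset (Idx A)) :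
    ∃ (R : Type u) (_ : CommRing R) (_ : Algebra A R) (r : Idx A → R),
      Function.Injective (algebraMap A R) ∧ ∀ p ∈ s, aeval (r p) p.1 = 0 := by
  classical
  induction s using Finset.induction with
  | empty => exact ⟨A, inferInstance, inferInstance, fun _ => 0, Function.injective_id, by simp⟩
  | insert p s hp ih =>
    obtain ⟨R, _, _, r, hinj, hr⟩ := ih
    let g : R[X] := p.1.map (algebraMap A R)
    have hg : g.Monic := p.2.1.map _
    have hof : Function.Injective (AdjoinRoot.of g) := by
      refine (injective_iff_map_eq_zero _).2 fun x hx => ?_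
      rw [← AdjoinRoot.mk_C, AdjoinRoot.mk_eq_zero] at hx
      rcases subsingleton_or_nontrivial R with _ | _
      · exact Subsingleton.elim _ _
      by_contra hne
      refine hg.not_dvd_of_natDegree_lt (by simpa using hne) ?_ hx
      rw [natDegree_C, show g.natDegree = p.1.natDegree from p.2.1.natDegree_map _]
      exact p.2.2
    refine ⟨AdjoinRoot g, inferInstance, inferInstance, Function.update (fun q => AdjoinRoot.of g (r q)) p (AdjoinRoot.root g),
      ?_, fun q hq => ?_⟩
    · rw [IsScalarTower.algebraMap_eq A R (AdjoinRoot g)]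
      exact hof.comp hinj
    · rcases eq_or_ne q p with rfl | hne
      · rw [Function.update_self, aeval_def, IsScalarTower.algebraMap_eq A R (AdjoinRoot g), ← eval₂_map,
          AdjoinRoot.algebraMap_eq]
        exact AdjoinRoot.eval₂_root g
      · rw [Function.update_of_ne hne, ← AdjoinRoot.algebraMap_eq, aeval_algebraMap_apply,
          hr q ((Finset.mem_insert.1 hq).resolve_left hne), map_zero]

/-- One step of the construction. -/
abbrev Next : Type u := MvPolynomial (Idx A) A ⧸ rel A

theorem next_injective : Function.Injective (algebraMap A (Next A)) := by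
  refine (injective_iff_map_eq_zero _).2 fun a ha => ?_
  rw [IsScalarTower.algebraMap_apply A (MvPolynomial (Idx A) A) (Next A), Ideal.Quotient.algebraMap_eq,
    Ideal.Quotient.eq_zero_iff_mem, MvPolynomial.algebraMap_eq, rel] at ha
  obtain ⟨T, hT, hmem⟩ := Submodule.mem_span_finite_of_mem_span ha
  classical
  obtain ⟨s, -, rfl⟩ := Finset.subset_set_image_iff.1 (show (T : Set _) ⊆ (fun p : Idx A => aeval (MvPolynomial.X p) p.1) '' Set.univ by rw [Set.image_univ]; exact hT)
  obtain ⟨R, _, _, r, hinj, hr⟩ := exists_roots A s
  let T : Finset (MvPolynomial (Idx A) A) := s.image fun p : Idx A => aeval (MvPolynomial.X p) p.1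
  have hle : Ideal.span (T : Set (MvPolynomial (Idx A) A)) ≤
      RingHom.ker (MvPolynomial.aeval r : MvPolynomial (Idx A) A →ₐ[A] R) := Ideal.span_le.2 fun z hz => by
    obtain ⟨p, hp, rfl⟩ := Finset.mem_image.1 (Finset.mem_coe.1 hz)
    rw [SetLike.mem_coe, RingHom.mem_ker, ← aeval_algHom_apply, MvPolynomial.aeval_X]
    exact hr p hp
  have h := hle hmem
  rw [RingHom.mem_ker, MvPolynomial.aeval_C] at h
  exact (injective_iff_map_eq_zero _).1 hinj a h

theorem next_root (p : A[X]) (hp : p.Monic) (hd : 0 < p.natDegree) : ∃ x : Next A, aeval x p = 0 := by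
  refine ⟨Ideal.Quotient.mkₐ A (rel A) (MvPolynomial.X ⟨p, hp, hd⟩), ?_⟩
  rw [aeval_algHom_apply]
  exact Ideal.Quotient.eq_zero_iff_mem.2 (Ideal.subset_span ⟨⟨p, hp, hd⟩, rfl⟩)

/-- The tower. -/
noncomputable def stage : ℕ → CommRingCat.{u}
  | 0 => CommRingCat.of A
  | n + 1 => CommRingCat.of (Next (stage n))

/-- The transition maps. -/
noncomputable def step (n : ℕ) : stage A n ⟶ stage A (n + 1) :=
  CommRingCat.ofHom (algebraMap (stage A n) (Next (stage A n)))

/-- The tower as maps of rings. -/
noncomputable def trans (i j : ℕ) (h : i ≤ j) : stage A i →+* stage A j :=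
  Nat.leRecOn h (fun {k} g => (step A k).hom.comp g) (RingHom.id _)

theorem trans_self (i : ℕ) : trans A i i le_rfl = RingHom.id _ := Nat.leRecOn_self _

theorem trans_succ (i j : ℕ) (h : i ≤ j) :
    trans A i (j + 1) (h.trans (Nat.le_succ j)) = (step A j).hom.comp (trans A i j h) := Nat.leRecOn_succ h _

theorem trans_trans (i j k : ℕ) (hij : i ≤ j) (hjk : j ≤ k) (x : stage A i) :
    trans A j k hjk (trans A i j hij x) = trans A i k (hij.trans hjk) x := by
  induction hjk with
  | refl => rw [trans_self]; rfl
  | step hjk ih =>
    rw [trans_succ A j _ hjk, trans_succ A i _ (hij.trans hjk)]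
    exact congrArg (step A _).hom ih

theorem trans_injective (i j : ℕ) (h : i ≤ j) : Function.Injective (trans A i j h) := by
  induction h with
  | refl => rw [trans_self]; exact Function.injective_id
  | step h ih =>
    rw [trans_succ A i _ h]
    exact (next_injective (stage A _)).comp ih

/-- The colimit. -/
abbrev Ext : Type u := Ring.DirectLimit (fun n => stage A n) (fun i j h => trans A i j h)

instance directedSystem : DirectedSystem (fun n => stage A n) (fun i j h => trans A i j h) where
  map_self i x := by rw [trans_self]; rfl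
  map_map _ _ _ hij hjk x := trans_trans A _ _ _ hij hjk x

theorem ext_injective : Function.Injective (Ring.DirectLimit.of (fun n => stage A n) (fun i j h => trans A i j h) 0) :=
  Ring.DirectLimit.of_injective (fun i j h => trans A i j h) (fun i j h => trans_injective A i j h) 0

theorem exists_stage_poly (f : (Ext A)[X]) :
    ∃ (n : ℕ) (g : (stage A n)[X]), g.map (Ring.DirectLimit.of (fun n => stage A n) (fun i j h => trans A i j h) n) = f :=
  Ring.DirectLimit.Polynomial.exists_of f

theorem ext_root (f : (Ext A)[X]) (hf : f.Monic) (hd : 0 < f.natDegree) : ∃ x, f.IsRoot x := by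
  obtain ⟨n, g, hg⟩ := exists_stage_poly A f
  haveI : Nontrivial (Ext A) := nontrivial_iff.2 <| by
    by_contra h
    push Not at h
    have : f = 0 := Polynomial.ext fun i => h _ _
    rw [this, natDegree_zero] at hd
    exact lt_irrefl _ hd
  have hinj := Ring.DirectLimit.of_injective (fun i j h => trans A i j h) (fun i j h => trans_injective A i j h) n
  have hgm : g.Monic := monic_of_injective hinj (hg ▸ hf)
  have hgd : 0 < g.natDegree := by rwa [← natDegree_map_eq_of_injective hinj, hg]
  obtain ⟨x, hx⟩ := next_root (stage A n) g hgm hgd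
  refine ⟨Ring.DirectLimit.of (fun n => stage A n) (fun i j h => trans A i j h) (n + 1) x, ?_⟩
  have hc : (Ring.DirectLimit.of (fun n => stage A n) (fun i j h => trans A i j h) (n + 1)).comp (step A n).hom =
      Ring.DirectLimit.of (fun n => stage A n) (fun i j h => trans A i j h) n := by
    refine RingHom.ext fun y => ?_
    have := Ring.DirectLimit.of_f (f := fun i j h => trans A i j h) (Nat.le_succ n) y
    rw [trans_succ A n n le_rfl, trans_self] at this
    exact this
  rw [IsRoot, ← hg, ← hc, ← Polynomial.map_map, eval_map_apply, eval_map]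
  exact (congrArg _ hx).trans (map_zero _)

theorem splits (f : (Ext A)[X]) (hf : f.Monic) :
    ∃ s : Multiset (Ext A), f = (s.map fun b => X - C b).prod := by
  induction hn : f.natDegree using Nat.strong_induction_on generalizing f with
  | _ n ih =>
    rcases Nat.eq_zero_or_pos f.natDegree with h0 | h0
    · exact ⟨0, by simpa using hf.natDegree_eq_zero.1 h0⟩
    obtain ⟨x, hx⟩ := ext_root A f hf h0
    obtain ⟨q, hq⟩ := dvd_iff_isRoot.2 hx
    have hqm : q.Monic := (monic_X_sub_C x).of_mul_monic_left (hq ▸ hf)
    haveI : Nontrivial (Ext A) := nontrivial_iff.2 <| by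
      by_contra h
      push Not at h
      have : f = 0 := Polynomial.ext fun i => h _ _
      rw [this, natDegree_zero] at h0
      exact lt_irrefl _ h0
    obtain ⟨s, hs⟩ := ih q.natDegree (by rw [← hn, hq, (monic_X_sub_C x).natDegree_mul hqm, natDegree_X_sub_C]; omega)
      q hqm rfl
    exact ⟨x ::ₘ s, by rw [hq, hs, Multiset.map_cons, Multiset.prod_cons]⟩

end Groth.Agent.AICExtLib
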